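import Groth.Agent.AlgSpRedSub.Basic
import Groth.Agent.AlgStB.CoverDescent
import Groth.Agent.AlgStB.PointsTop
import Groth.Agent.WNA.FiniteQuot
import Groth.Agent.AlgStB.OfPsh
import Groth.Agent.AlgSpLimit.Criterion
import Groth.Prelude.Def_StCoarse

/-!
# The moduli space of a reduced stack is reduced
-/

set_option autoImplicit false
set_option linter.style.haveILetI false
set_option backward.isDefEq.respectTransparency false
set_option backward.isDefEq.respectTransparency.types false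

universe u

open CategoryTheory CategoryTheory.Limits AlgebraicGeometry Opposite

namespace Groth.Agent.RedModuli

open _root_.AlgSp

variable {S : Scheme.{u}} {M Z : Sp S}

/-- The map of sheaves of a section. -/
noncomputable def secMap (a : (AlgSt.ofSp M).obj) : (yon S).obj a.base ⟶ M :=
  ((_root_.AlgSp.J S).uliftYonedaEquiv).symm a.sec

theorem secMap_comp {a b : (AlgSt.ofSp M).obj} (f : a ⟶ b) :
    (yon S).map f.hom ≫ secMap b = secMap a := by
  change (_root_.AlgSp.J S).uliftYoneda.map f.hom ≫ ((_root_.AlgSp.J S).uliftYonedaEquiv).symm b.sec = _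
  rw [GrothendieckTopology.uliftYonedaEquiv_symm_naturality_left, f.map_sec]
  rfl

/-- A functor from a reduced stack to a space factors through a closed subspace containing all points. -/
theorem exists_factor {𝒳 : AlgSt.Cat S} (h𝒳 : AlgSt.IsAlgStack Scheme.fppfPrecoverage 𝒳)
    (hred : AlgSt.SmoothLocally (fun X => AlgebraicGeometry.IsReduced X) 𝒳)
    (π : 𝒳 ⥤ᵇ AlgSt.ofSp M) (i : Z ⟶ M) (hi : RepWith @IsClosedImmersion i)
    (his : Function.Surjective (Points.map i)) :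
    ∃ φ : 𝒳 ⥤ᵇ AlgSt.ofSp Z, Nonempty (BasedFunctor.comp φ (AlgSt.ofSpMap i) ≅ π) := by
  have hX := h𝒳.isStack.1
  haveI := Fib.isFibered_of_isFibGrpd _ hX
  haveI : Mono i := AlgSpc.mono_of_repWith (fun _ _ k (hk : IsClosedImmersion k) =>
    (inferInstance : Mono k)) hi
  let Lift : 𝒳.obj → Prop := fun a => ∃ l, l ≫ i = secMap (π.obj a)
  have hpull : ∀ {a b : 𝒳.obj} (_ : a ⟶ b), Lift b → Lift a := fun φ ⟨l, hl⟩ =>
    ⟨(yon S).map (π.map φ).hom ≫ l, by rw [Category.assoc, hl]; exact secMap_comp (π.map φ)⟩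
  have hdesc : ∀ {a b : 𝒳.obj} (φ : a ⟶ b), Epi ((yon S).map (π.map φ).hom) → Lift a → Lift b := by
    intro a b φ hφ ⟨l, hl⟩
    obtain ⟨W, fst, j, sq⟩ := AlgSpc.exists_sq hi.1 (secMap (π.obj b))
    haveI : IsClosedImmersion j.left := hi.2 _ fst j sq
    haveI := AlgSpRedSub.mono_of_closedImmersion j
    haveI : Mono ((yon S).map j) := inferInstance
    have w : l ≫ i = (yon S).map (π.map φ).hom ≫ secMap (π.obj b) :=
      hl.trans (secMap_comp (π.map φ)).symm
    haveI : Epi (sq.lift l _ w ≫ (yon S).map j) := by rw [sq.lift_snd]; exact hφ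
    haveI : Epi ((yon S).map j) := epi_of_epi (sq.lift l _ w) _
    haveI : IsIso ((yon S).map j) := isIso_of_mono_of_epi _
    exact ⟨inv ((yon S).map j) ≫ fst, by rw [Category.assoc, sq.w, IsIso.inv_hom_id_assoc]⟩
  obtain ⟨U, x, hx, hxs⟩ := h𝒳.atlas
  have hU : AlgebraicGeometry.IsReduced U.left := hred U x hx
  have hU₀ : Lift (x.obj (Over.mk (𝟙 U))) := by
    obtain ⟨W, fst, j, sq⟩ := AlgSpc.exists_sq hi.1 (secMap (π.obj (x.obj (Over.mk (𝟙 U)))))
    haveI : IsClosedImmersion j.left := hi.2 _ fst j sq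
    have hb : (π.obj (x.obj (Over.mk (𝟙 U)))).base = U := (π.w_obj _).trans (x.w_obj _)
    haveI : AlgebraicGeometry.IsReduced (π.obj (x.obj (Over.mk (𝟙 U)))).base.left := hb.symm ▸ hU
    obtain ⟨g, hg⟩ := AlgSpRedSub.exists_lift (𝟙 _) j (fun t _ => by
      obtain ⟨z, hz⟩ := his (Points.ofPt (secMap (π.obj (x.obj (Over.mk (𝟙 U))))) t)
      obtain ⟨v, -, hv⟩ := AlgSpc.exists_point_of_sq sq z t hz
      exact ⟨v, hv⟩)
    exact ⟨(yon S).map g ≫ fst, by
      rw [Category.assoc, sq.w, ← Functor.map_comp_assoc, hg, CategoryTheory.Functor.map_id,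
        Category.id_comp]⟩
  have hall : ∀ y : 𝒳.obj, Lift y := by
    intro y
    obtain ⟨Y, -, ey, hey⟩ := Fib.exists_basedFunctor (⟨y, rfl⟩ : 𝒳.p.Fiber (𝒳.p.obj y))
    obtain ⟨V, k, z, hcov, ⟨e⟩⟩ := AlgStB.exists_cover_lift x (AlgStB.flat_lfp_of_smooth hx).1
      (AlgStB.flat_lfp_of_smooth hx).2 hxs (𝒳.p.obj y) Y
    haveI : Flat k.left := locP_yon_map (hcov.1 PUnit.unit).1
    haveI : LocallyOfFinitePresentation k.left := locP_yon_map (hcov.1 PUnit.unit).2
    haveI : Surjective k.left := ⟨fun t => by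
      obtain ⟨_, p, hp⟩ := hcov.2 (Points.ofScheme _ t)
      obtain ⟨v, rfl⟩ := AlgSpc.surjective_ofPt (repWith_id _ V) p
      refine ⟨v, ?_⟩
      have := congrArg (Points.toScheme _) hp
      rwa [Points.map_ofPt, Category.id_comp, Points.toScheme_ofPt, Points.toScheme_ofScheme] at this⟩
    haveI := WNA.isLocallySurjective_yon_map k
    haveI : Epi ((yon S).map k) := inferInstance
    have ha : Lift (x.obj (z.obj (Over.mk (𝟙 V)))) := by
      let a := z.obj (Over.mk (𝟙 V))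
      exact hpull (x.map (Over.homMk a.hom (Category.comp_id _) : a ⟶ Over.mk (𝟙 U))) hU₀
    let e' := Fib.appIso e (Over.mk (𝟙 V))
    haveI : 𝒳.p.IsHomLift (𝟙 V) e'.hom := Fib.appIso_isHomLift e (Over.mk (𝟙 V))
    let m : (AlgSt.overMap k).obj (Over.mk (𝟙 V)) ⟶ Over.mk (𝟙 (𝒳.p.obj y)) :=
      Over.homMk k (by simp [AlgSt.overMap])
    haveI : (FibCat.overCat (𝒳.p.obj y)).p.IsHomLift k m :=
      IsHomLift.of_fac' _ _ _ rfl rfl (by simp [m]; rfl)
    haveI : 𝒳.p.IsHomLift k (Y.map m) := BasedFunctor.preserves_isHomLift Y k m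
    haveI := hey
    let φ : x.obj (z.obj (Over.mk (𝟙 V))) ⟶ y := e'.hom ≫ Y.map m ≫ ey.hom
    haveI hφ : 𝒳.p.IsHomLift k φ := by
      have : 𝒳.p.IsHomLift (𝟙 V ≫ k ≫ 𝟙 _) φ := inferInstance
      rwa [Category.id_comp, Category.comp_id] at this
    haveI : (AlgSt.ofSp M).p.IsHomLift k (π.map φ) := BasedFunctor.preserves_isHomLift π k φ
    refine hdesc φ ?_ ha
    have hh : (π.map φ).hom = _ := IsHomLift.fac' (AlgSt.ofSp M).p k (π.map φ)
    rw [hh]
    simp only [Functor.map_comp, eqToHom_map]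
    infer_instance
  choose l hl using hall
  let Y : (AlgSt.ofSp M).obj → Type (u + 1) := fun a => Z.obj.obj (op a.base)
  let s : ∀ y : 𝒳.obj, Z.obj.obj (op (π.obj y).base) := fun y =>
    (_root_.AlgSp.J S).uliftYonedaEquiv (l y)
  have hs : ∀ {a b : 𝒳.obj} (φ : a ⟶ b), Z.obj.map (π.map φ).hom.op (s b) = s a := fun {a b} φ => by
    have h : (yon S).map (π.map φ).hom ≫ l b = l a :=
      (cancel_mono i).1 (by rw [Category.assoc, hl, hl]; exact secMap_comp (π.map φ))
    change Z.obj.map _ ((_root_.AlgSp.J S).uliftYonedaEquiv (l b)) = (_root_.AlgSp.J S).uliftYonedaEquiv (l a)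
    rw [← h]
    exact (AlgSpLimit.equiv_map _ _).symm
  let F : 𝒳.obj ⥤ (AlgSt.ofSp Z).obj :=
    { obj := fun y => (⟨(π.obj y).base, s y⟩ : Stk.EltObj Z.obj)
      map := fun φ => ⟨(π.map φ).hom, hs φ⟩
      map_id := fun y => Stk.EltObj.hom_ext
        (show (π.map (𝟙 y)).hom = 𝟙 (π.obj y).base by rw [π.toFunctor.map_id]; rfl)
      map_comp := fun f g => Stk.EltObj.hom_ext
        (show (π.map (f ≫ g)).hom = (π.map f).hom ≫ (π.map g).hom by rw [π.toFunctor.map_comp]; rfl) }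
  refine ⟨⟨F, π.w⟩, ?_⟩
  have hobj : ∀ y : 𝒳.obj, (AlgSt.ofSpMap i).obj (F.obj y) = π.obj y := fun y => by
    have h : i.hom.app (op (π.obj y).base) (s y) = (π.obj y).sec := by
      have := congrArg (_root_.AlgSp.J S).uliftYonedaEquiv (hl y)
      rw [GrothendieckTopology.uliftYonedaEquiv_comp] at this
      exact this.trans (Equiv.apply_symm_apply _ _)
    change (⟨(π.obj y).base, i.hom.app (op (π.obj y).base) (s y)⟩ : Stk.EltObj M.obj) = π.obj y
    rw [h]
  exact ⟨Fib.isoMk (fun y => eqToIso (hobj y)) (fun {a b} f => by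
      apply Stk.EltObj.hom_ext
      simp [AlgStB.eqToHom_hom]
      rfl)
    (fun y => IsHomLift.of_fac' _ _ _ (π.w_obj y) (π.w_obj y) (by simp [AlgStB.eqToHom_hom]))⟩

end Groth.Agent.RedModuli
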